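import Groth.Prelude.Def_FSch3
import Mathlib.AlgebraicGeometry.Modules.Sheaf

/-!
# Transposes of comparisons of inverse images along a composite
-/

set_option autoImplicit false

universe u

open CategoryTheory AlgebraicGeometry

namespace Groth.Agent.FComplAff.Trans

open Scheme.Modules

variable {X Y Z : Scheme.{u}} (i : X ⟶ Y) (g : Y ⟶ Z) {k : X ⟶ Z} (h : i ≫ g = k)

/-- The map of direct images induced by `x : i^* F' ⟶ F`. -/
noncomputable def T {F' : Y.Modules} {F : X.Modules} (x : (pullback i).obj F' ⟶ F) :
    (pushforward g).obj F' ⟶ (pushforward k).obj F :=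
  (pushforward g).map ((pullbackPushforwardAdjunction i).homEquiv _ _ x) ≫
    (pushforwardComp i g).hom.app F ≫ (pushforwardCongr h).hom.app F

theorem T_naturality {F' G' : Y.Modules} {F G : X.Modules} (x : (pullback i).obj F' ⟶ F)
    (y : (pullback i).obj G' ⟶ G) (ψ' : F' ⟶ G') (ψ : F ⟶ G) (e : (pullback i).map ψ' ≫ y = x ≫ ψ) :
    (pushforward g).map ψ' ≫ T i g h y = T i g h x ≫ (pushforward k).map ψ := by
  have e1 := (pushforwardComp i g).hom.naturality ψ
  have e2 := (pushforwardCongr h).hom.naturality ψ
  simp only [T, Category.assoc]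
  rw [← e2, ← reassoc_of% e1, ← Functor.map_comp_assoc, ← Functor.map_comp_assoc,
    ← Adjunction.homEquiv_naturality_left, e, Adjunction.homEquiv_naturality_right]

/-- The canonical comparison `i^* g^* ≅ k^*`. -/
noncomputable def transIso : pullback g ⋙ pullback i ≅ pullback k :=
  pullbackComp i g ≪≫ pullbackCongr h

theorem unit_T_transIso (M : Z.Modules) :
    (pullbackPushforwardAdjunction g).unit.app M ≫ T i g h ((transIso i g h).hom.app M) =
      (pullbackPushforwardAdjunction k).unit.app M := by
  subst h
  have hc : ∀ F : X.Modules, (pushforwardCongr (rfl : i ≫ g = i ≫ g)).hom.app F = 𝟙 _ := fun F => by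
    ext U x
    simp
  have ht : (transIso i g (rfl : i ≫ g = i ≫ g)).hom.app M = (pullbackComp i g).hom.app M := by
    simp [transIso, pullbackCongr]
  have hn := (pushforwardComp i g).hom.naturality ((pullbackComp i g).hom.app M)
  simp only [Functor.comp_map] at hn
  rw [ht, T, hc, Category.comp_id, Adjunction.homEquiv_unit, Functor.map_comp]
  have key := unit_conjugateEquiv ((pullbackPushforwardAdjunction g).comp (pullbackPushforwardAdjunction i))
    (pullbackPushforwardAdjunction (i ≫ g)) (pullbackComp i g).inv M
  rw [conjugateEquiv_pullbackComp_inv, Adjunction.comp_unit_app] at key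
  simp only [Category.assoc] at key ⊢
  rw [hn]
  erw [reassoc_of% key]
  rw [← Functor.map_comp, Iso.inv_hom_id_app, CategoryTheory.Functor.map_id, Category.comp_id]

/-- Compatibility of a family of maps out of inverse images, in terms of the transposes. -/
theorem comm_iff {M : Z.Modules} {G' : Y.Modules} {G : X.Modules} (y : (pullback i).obj G' ⟶ G)
    (φ' : (pullback g).obj M ⟶ G') (φ : (pullback k).obj M ⟶ G) :
    (pullback i).map φ' ≫ y = (transIso i g h).hom.app M ≫ φ ↔
      (pullbackPushforwardAdjunction g).homEquiv M G' φ' ≫ T i g h y =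
        (pullbackPushforwardAdjunction k).homEquiv M G φ := by
  let ψ : (pullback k).obj M ⟶ G := (transIso i g h).inv.app M ≫ (pullback i).map φ' ≫ y
  have hψ : (pullback i).map φ' ≫ y = (transIso i g h).hom.app M ≫ ψ := by
    simp [ψ]
  have hk : (pullbackPushforwardAdjunction g).homEquiv M G' φ' ≫ T i g h y =
      (pullbackPushforwardAdjunction k).homEquiv M G ψ := by
    rw [Adjunction.homEquiv_unit, Adjunction.homEquiv_unit, Category.assoc, T_naturality i g h _ y φ' ψ hψ,
      ← Category.assoc, unit_T_transIso]
  rw [hk, Equiv.apply_eq_iff_eq, hψ, cancel_epi]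

end Groth.Agent.FComplAff.Trans
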