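import Groth.Agent.FComplAff.Unit
import Groth.Agent.FComplAff.Trans
import Groth.Agent.FComplAff.Mod
import Groth.Agent.QCoh.FiniteType

/-!
# Coherent systems on a formal spectrum and finite modules
-/

set_option autoImplicit false
set_option linter.style.haveILetI false

universe u

open CategoryTheory AlgebraicGeometry Opposite

namespace Groth.Agent.FComplAff

variable (A : CommRingCat.{u}) (J : Ideal A)

/-- The completion. -/
noncomputable abbrev Cpl : FSch.Sys.{u} :=
  FSch.completionAlong (Spec (CommRingCat.of A)) (FSch.idealSpec A J)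

theorem ι_jn (n : ℕ) : (Cpl A J).ι n ≫ jn A J (n + 1) = jn A J n :=
  Scheme.IdealSheafData.inclusion_subschemeι _

/-- The transition map of sections of a system. -/
noncomputable def t (G : FSch.ModSys (Cpl A J)) (n : ℕ) : Wn A J (n + 1) (G.F (n + 1)) ⟶ Wn A J n (G.F n) :=
  (moduleSpecΓFunctor (R := A)).map (Trans.T ((Cpl A J).ι n) (jn A J (n + 1)) (ι_jn A J n) (G.e n).hom)

/-- Maps out of the inverse image of `M~` are maps of modules. -/
noncomputable def E (n : ℕ) (M : ModuleCat.{u} A) (G : ((Cpl A J).X n).Modules) :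
    (pullJ A J n M ⟶ G) ≃ (M ⟶ Wn A J n G) :=
  ((Scheme.Modules.pullbackPushforwardAdjunction (jn A J n)).homEquiv (tilde M) G).trans
    (tilde.adjunction.homEquiv M _)

theorem E_eq (n : ℕ) (M : ModuleCat.{u} A) (G : ((Cpl A J).X n).Modules) (φ : pullJ A J n M ⟶ G) :
    E A J n M G φ = u A J n M ≫
      (moduleSpecΓFunctor (R := A)).map ((Scheme.Modules.pushforward (jn A J n)).map φ) := by
  refine Eq.trans ?_ (tilde.adjunction.homEquiv_naturality_right (etaJ A J n M) _)
  exact congrArg (tilde.adjunction.homEquiv M _)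
    ((Scheme.Modules.pullbackPushforwardAdjunction (jn A J n)).homEquiv_unit _ _ _)

theorem E_pull_map (n : ℕ) {M N : ModuleCat.{u} A} (v : M ⟶ N) :
    E A J n M (pullJ A J n N) ((Scheme.Modules.pullback (jn A J n)).map (tilde.map v)) = v ≫ u A J n N := by
  refine Eq.trans ?_ (tilde.adjunction.homEquiv_naturality_left v (etaJ A J n N))
  refine congrArg (tilde.adjunction.homEquiv M _) ?_
  refine ((Scheme.Modules.pullbackPushforwardAdjunction (jn A J n)).homEquiv_unit _ _ _).trans ?_
  exact ((Scheme.Modules.pullbackPushforwardAdjunction (jn A J n)).unit.naturality (tilde.map v)).symm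

/-- Compatibility in terms of sections. -/
theorem comm_iff (G : FSch.ModSys (Cpl A J)) (n : ℕ) (M : ModuleCat.{u} A)
    (φ' : pullJ A J (n + 1) M ⟶ G.F (n + 1)) (φ : pullJ A J n M ⟶ G.F n) :
    (Scheme.Modules.pullback ((Cpl A J).ι n)).map φ' ≫ (G.e n).hom =
        (Trans.transIso ((Cpl A J).ι n) (jn A J (n + 1)) (ι_jn A J n)).hom.app (tilde M) ≫ φ ↔
      E A J (n + 1) M _ φ' ≫ t A J G n = E A J n M _ φ := by
  rw [Trans.comm_iff ((Cpl A J).ι n) (jn A J (n + 1)) (ι_jn A J n)]
  constructor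
  · intro h
    refine (tilde.adjunction.homEquiv_naturality_right _ _).symm.trans ?_
    exact congrArg (tilde.adjunction.homEquiv M _) h
  · intro h
    apply (tilde.adjunction.homEquiv M _).injective
    exact (tilde.adjunction.homEquiv_naturality_right _ _).trans h

section Generic

variable {𝔛 : FSch.Sys.{u}} {Z : Scheme.{u}} (g : ∀ n, 𝔛.X n ⟶ Z) (hg : ∀ n, 𝔛.ι n ≫ g (n + 1) = g n)

/-- The system of inverse images along a compatible family. -/
noncomputable def cmOf (F : Z.Modules) : FSch.ModSys 𝔛 where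
  F n := (Scheme.Modules.pullback (g n)).obj F
  e n := (Trans.transIso (𝔛.ι n) (g (n + 1)) (hg n)).app F

/-- Its functoriality. -/
noncomputable def cmOfMap {F G : Z.Modules} (φ : F ⟶ G) : cmOf g hg F ⟶ cmOf g hg G :=
  ⟨fun n => (Scheme.Modules.pullback (g n)).map φ, fun n =>
    (Trans.transIso (𝔛.ι n) (g (n + 1)) (hg n)).hom.naturality φ⟩

/-- A morphism of systems of inverse images from its levels. -/
noncomputable def cmOfHom {F G : Z.Modules}
    (app : ∀ n, (Scheme.Modules.pullback (g n)).obj F ⟶ (Scheme.Modules.pullback (g n)).obj G)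
    (h : ∀ n, (Scheme.Modules.pullback (𝔛.ι n)).map (app (n + 1)) ≫
        ((Trans.transIso (𝔛.ι n) (g (n + 1)) (hg n)).app G).hom =
      ((Trans.transIso (𝔛.ι n) (g (n + 1)) (hg n)).app F).hom ≫ app n) : cmOf g hg F ⟶ cmOf g hg G :=
  ⟨app, h⟩

theorem cmOfHom_app {F G : Z.Modules}
    (app : ∀ n, (Scheme.Modules.pullback (g n)).obj F ⟶ (Scheme.Modules.pullback (g n)).obj G) (h) :
    (cmOfHom g hg (F := F) (G := G) app h).app = app := rfl

end Generic

theorem incl_comm {X : Scheme.{u}} (I : X.IdealSheafData) (n : ℕ) :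
    (FSch.completionAlong X I).ι n ≫ FSch.completionToX X I (n + 1) = FSch.completionToX X I n :=
  Scheme.IdealSheafData.inclusion_subschemeι (FSch.pow_succ_le X I n)

theorem complTransIso_eq {X : Scheme.{u}} (I : X.IdealSheafData) (n : ℕ) :
    FSch.complTransIso I n = Trans.transIso ((FSch.completionAlong X I).ι n) (FSch.completionToX X I (n + 1)) (incl_comm I n) := rfl

theorem comm_compl {X : Scheme.{u}} (I : X.IdealSheafData) {F G : X.Modules} (n : ℕ)
    (φ : FSch.complMod I F ⟶ FSch.complMod I G) :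
    (Scheme.Modules.pullback ((FSch.completionAlong X I).ι n)).map (φ.app (n + 1)) ≫
        ((FSch.complTransIso I n).app G).hom =
      ((FSch.complTransIso I n).app F).hom ≫ φ.app n := φ.comm n

theorem comm_compl' {X : Scheme.{u}} (I : X.IdealSheafData) {F G : X.Modules} (n : ℕ)
    (a' : (Scheme.Modules.pullback (FSch.completionToX X I (n + 1))).obj F ⟶
      (Scheme.Modules.pullback (FSch.completionToX X I (n + 1))).obj G)
    (a : (Scheme.Modules.pullback (FSch.completionToX X I n)).obj F ⟶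
      (Scheme.Modules.pullback (FSch.completionToX X I n)).obj G)
    (h : (Scheme.Modules.pullback ((FSch.completionAlong X I).ι n)).map a' ≫ ((FSch.complTransIso I n).app G).hom =
      ((FSch.complTransIso I n).app F).hom ≫ a) :
    (Scheme.Modules.pullback ((FSch.completionAlong X I).ι n)).map a' ≫
        ((Trans.transIso ((FSch.completionAlong X I).ι n) (FSch.completionToX X I (n + 1))
          (incl_comm I n)).app G).hom =
      ((Trans.transIso ((FSch.completionAlong X I).ι n) (FSch.completionToX X I (n + 1))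
          (incl_comm I n)).app F).hom ≫ a := by
  rw [← complTransIso_eq]
  exact h

/-- A morphism of completions as one of systems of inverse images. -/
theorem exists_ofCompl {X : Scheme.{u}} (I : X.IdealSheafData) {F G : X.Modules}
    (φ : FSch.complMod I F ⟶ FSch.complMod I G) :
    ∃ ψ : cmOf (FSch.completionToX X I) (incl_comm I) F ⟶
      cmOf (FSch.completionToX X I) (incl_comm I) G, ψ.app = φ.app :=
  ⟨cmOfHom (FSch.completionToX X I) (incl_comm I) (F := F) (G := G)
    (fun n => φ.app n) (fun n => comm_compl' I n (φ.app (n + 1)) (φ.app n) (comm_compl I n φ)), cmOfHom_app _ _ _ _⟩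

theorem complModMap_app_eq {X : Scheme.{u}} (I : X.IdealSheafData) {F G : X.Modules} (φ : F ⟶ G) :
    (FSch.complModMap I φ).app =
      (cmOfMap (FSch.completionToX X I) (incl_comm I) φ).app := rfl

theorem complMod_eq_cmOf {X : Scheme.{u}} (I : X.IdealSheafData) (F : X.Modules) :
    FSch.complMod I F =
      cmOf (FSch.completionToX X I) (incl_comm I) F := rfl

theorem mem_of_u_eq (n : ℕ) {N : ModuleCat.{u} A} {x y : N} (h : (u A J n N).hom x = (u A J n N).hom y) :
    x - y ∈ (J ^ (n + 1) • ⊤ : Submodule A N) :=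
  u_ker A J n N _ (by rw [map_sub, h, sub_self])

/-- Compatible maps into the levels of a complete module come from a unique map. -/
theorem existsUnique_lift {M N : ModuleCat.{u} A} (hN : IsAdicComplete J N) {W : ℕ → ModuleCat.{u} A}
    (t : ∀ n, W (n + 1) ⟶ W n) (q : ∀ n, N ⟶ W n) (hq : ∀ n, q (n + 1) ≫ t n = q n)
    (hqs : ∀ n, Function.Surjective (q n).hom)
    (hqk : ∀ n, LinearMap.ker (q n).hom = J ^ (n + 1) • (⊤ : Submodule A N))
    (a : ∀ n, M ⟶ W n) (ha : ∀ n, a (n + 1) ≫ t n = a n) :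
    ∃! v : M ⟶ N, ∀ n, v ≫ q n = a n := by
  have huniq : ∀ y y' : N, (∀ n, (q n).hom y = (q n).hom y') → y = y' := fun y y' h =>
    sub_eq_zero.1 (hN.toIsHausdorff.haus _ fun k => SModEq.zero.2 (by
      rcases k with _ | k
      · simp
      rw [← hqk k, LinearMap.mem_ker, map_sub, h k, sub_self]))
  have hex : ∀ x : M, ∃ y : N, ∀ n, (q n).hom y = (a n).hom x := by
    intro x
    choose y hy using fun n => hqs n ((a n).hom x)
    have hd : ∀ n, y (n + 1) - y n ∈ (J ^ (n + 1) • ⊤ : Submodule A N) := fun n => by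
      rw [← hqk n, LinearMap.mem_ker, map_sub, sub_eq_zero, hy n, ← ha n, ← hq n]
      simp only [ModuleCat.hom_comp, LinearMap.comp_apply, hy (n + 1)]
    let z : ℕ → N := fun n => Nat.rec 0 (fun k _ => y k) n
    have hstep : ∀ n, z n ≡ z (n + 1) [SMOD (J ^ n • ⊤ : Submodule A N)] := by
      intro n
      rcases n with _ | n
      · simp
      exact (SModEq.sub_mem.2 (hd n)).symm
    have hz : ∀ {m n : ℕ}, m ≤ n → z m ≡ z n [SMOD (J ^ m • ⊤ : Submodule A N)] := by
      intro m n hmn
      induction hmn with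
      | refl => rfl
      | @step n hmn ih => exact ih.trans ((hstep n).mono (Submodule.smul_mono_left (Ideal.pow_le_pow_right hmn)))
    obtain ⟨L, hL⟩ := hN.toIsPrecomplete.prec hz
    refine ⟨L, fun n => ?_⟩
    rw [← hy n, eq_comm, ← sub_eq_zero, ← map_sub, ← LinearMap.mem_ker, hqk n]
    exact SModEq.sub_mem.1 (hL (n + 1))
  choose v hv using hex
  let vl : M →ₗ[A] N :=
    { toFun := v
      map_add' := fun x x' => huniq _ _ fun n => by rw [map_add, hv, hv, hv, map_add]
      map_smul' := fun c x => huniq _ _ fun n => by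
        rw [map_smul, hv, hv, map_smul]
        rfl }
  refine ⟨ModuleCat.ofHom vl, fun n => ModuleCat.hom_ext (LinearMap.ext fun x => hv x n), fun w hw => ?_⟩
  exact ModuleCat.hom_ext (LinearMap.ext fun x => huniq _ _ fun n => (congr(($(hw n)).hom x)).trans (hv x n).symm)

/-- The limit of a system of modules. -/
theorem exists_limit [IsAdicComplete J A] {W : ℕ → ModuleCat.{u} A} (t : ∀ n, W (n + 1) ⟶ W n)
    (hs : ∀ n, Function.Surjective (t n).hom)
    (hk : ∀ n, LinearMap.ker (t n).hom = J ^ (n + 1) • (⊤ : Submodule A (W (n + 1))))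
    (h0 : Module.Finite A (W 0)) :
    ∃ (M : ModuleCat.{u} A) (π : ∀ n, M ⟶ W n), Module.Finite A M ∧ (∀ n, π (n + 1) ≫ t n = π n) ∧
      (∀ n, Function.Surjective (π n).hom) ∧
      ∀ n, LinearMap.ker (π n).hom = J ^ (n + 1) • (⊤ : Submodule A M) := by
  let L : Submodule A (∀ n, W n) :=
    { carrier := {x | ∀ n, (t n).hom (x (n + 1)) = x n}
      zero_mem' := fun n => map_zero _
      add_mem' := fun {x y} hx hy n => (map_add _ _ _).trans (congrArg₂ (· + ·) (hx n) (hy n))
      smul_mem' := fun a x hx n => (map_smul _ _ _).trans (congrArg (a • ·) (hx n)) }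
  let π : ∀ n, L →ₗ[A] W n := fun n => (LinearMap.proj n).comp L.subtype
  have hS : Adic.LimSys A J (fun n => W n) (fun n => (t n).hom) L π :=
    { surj := hs
      ker_eq := hk
      compat := fun n => LinearMap.ext fun x => x.2 n
      inj := fun x hx => Subtype.ext (funext hx)
      lift := fun y hy => ⟨⟨y, hy⟩, fun n => rfl⟩ }
  obtain ⟨r, ψ, hψ, hker⟩ := hS.exists_surjective_of_finite h0
  exact ⟨ModuleCat.of A L, fun n => ModuleCat.ofHom (π n), Module.Finite.of_surjective ψ hψ,
    fun n => ModuleCat.hom_ext (LinearMap.ext fun x => x.2 n), hS.surjective_proj, hker⟩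

theorem ker_u (n : ℕ) (M : ModuleCat.{u} A) :
    LinearMap.ker (u A J n M).hom = J ^ (n + 1) • (⊤ : Submodule A M) :=
  Submodule.ext fun x => ⟨u_ker A J n M x, u_smul_eq_zero A J n M x⟩

/-- The completion of `M~`, with levels written through `jn`. -/
noncomputable abbrev cm (M : ModuleCat.{u} A) : FSch.ModSys (Cpl A J) :=
  cmOf (jn A J) (ι_jn A J) (tilde M)

theorem u_t (M : ModuleCat.{u} A) (n : ℕ) : u A J (n + 1) M ≫ t A J (cm A J M) n = u A J n M := by
  have h := (comm_iff A J (cm A J M) n M (𝟙 _) (𝟙 _)).1 (by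
    refine ((congrArg (· ≫ _) ((Scheme.Modules.pullback _).map_id _)).trans (Category.id_comp _)).trans ?_
    exact (Category.comp_id _).symm)
  have e : ∀ n, E A J n M (pullJ A J n M) (𝟙 _) = u A J n M := fun n => by
    rw [E_eq, CategoryTheory.Functor.map_id, CategoryTheory.Functor.map_id, Category.comp_id]
  exact ((congrArg (· ≫ _) (e (n + 1))).symm.trans h).trans (e n)

/-- Morphisms of completions of finite modules come from morphisms of modules. -/
theorem existsUnique_cm [IsNoetherianRing A] [IsAdicComplete J A] (M N : ModuleCat.{u} A)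
    [Module.Finite A N] (φ : cm A J M ⟶ cm A J N) :
    ∃! v : M ⟶ N, ∀ n, φ.app n = (Scheme.Modules.pullback (jn A J n)).map (tilde.map v) := by
  have hN := Adic.isAdicComplete_of_finite J (M := N)
  obtain ⟨v, hv, hu⟩ := existsUnique_lift A J hN (W := fun n => Wn A J n (pullJ A J n N)) (fun n => t A J (cm A J N) n) (fun n => u A J n N)
    (u_t A J N) (fun n => u_surjective A J n N) (fun n => ker_u A J n N) (fun n => E A J n M _ (φ.app n))
    (fun n => (comm_iff A J (cm A J N) n M _ _).1 (φ.comm n))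
  refine ⟨v, fun n => (E A J n M _).injective ((hv n).symm.trans (E_pull_map A J n v).symm), fun w hw => hu w ?_⟩
  exact fun n => (E_pull_map A J n w).symm.trans (congrArg (E A J n M _) (hw n).symm)

/-- The completion of a map of modules. -/
noncomputable abbrev cmMap {M N : ModuleCat.{u} A} (v : M ⟶ N) : cm A J M ⟶ cm A J N :=
  cmOfMap (jn A J) (ι_jn A J) (tilde.map v)

theorem bijective_cmMap [IsNoetherianRing A] [IsAdicComplete J A] (M N : ModuleCat.{u} A) [Module.Finite A N] :
    Function.Bijective (cmMap A J (M := M) (N := N)) := by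
  refine ⟨fun v w h => (existsUnique_cm A J M N (cmMap A J v)).unique (fun n => rfl)
    (fun n => congrFun (congrArg FSch.ModSys.Hom.app h) n), fun φ => ?_⟩
  obtain ⟨v, hv, -⟩ := existsUnique_cm A J M N φ
  exact ⟨v, FSch.ModSys.Hom.ext (funext fun n => (hv n).symm)⟩

/-- A quasi-coherent module on a level is the inverse image of the sheaf of its sections. -/
theorem exists_iso_pullJ (n : ℕ) (G : ((Cpl A J).X n).Modules) [G.IsQuasicoherent] :
    ∃ ε : pullJ A J n (Wn A J n G) ⟶ G, IsIso ε ∧ E A J n (Wn A J n G) G ε = 𝟙 _ := by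
  haveI hq : (pushJ A J n G).IsQuasicoherent := inferInstance
  have hi := Scheme.Modules.isIso_fromTildeΓ_of_isQuasicoherent (pushJ A J n G)
  let fi : tilde (Wn A J n G) ≅ pushJ A J n G := @asIso _ _ _ _ _ hi
  refine ⟨((Scheme.Modules.pullbackPushforwardAdjunction (jn A J n)).homEquiv _ _).symm fi.hom, ?_, ?_⟩
  · rw [Adjunction.homEquiv_counit]
    haveI : IsIso ((Scheme.Modules.pullback (jn A J n)).map fi.hom) := Functor.map_isIso _ _
    exact @IsIso.comp_isIso _ _ _ _ _ _ _ this (Props.KilledSub.isIso_counit (jn A J n) G)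
  · change tilde.adjunction.homEquiv (Wn A J n G) (pushJ A J n G) _ = _
    rw [Equiv.apply_symm_apply, ← Equiv.eq_symm_apply]
    refine Eq.symm ?_
    refine (tilde.adjunction.homEquiv_counit (X := Wn A J n G) (Y := pushJ A J n G) (g := 𝟙 _)).trans ?_
    exact (congrArg (· ≫ _) ((tilde.functor A).map_id _)).trans (Category.id_comp _)

/-- Sections of a module isomorphic to the inverse image of `M~`. -/
theorem E_spec (n : ℕ) (M : ModuleCat.{u} A) (G : ((Cpl A J).X n).Modules) (φ : pullJ A J n M ⟶ G) [IsIso φ] :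
    Function.Surjective (E A J n M G φ).hom ∧
      LinearMap.ker (E A J n M G φ).hom = J ^ (n + 1) • (⊤ : Submodule A M) := by
  haveI : IsIso ((Scheme.Modules.pushforward (jn A J n)).map φ) := Functor.map_isIso _ _
  obtain ⟨g, hg, hb⟩ : ∃ g : Wn A J n (pullJ A J n M) ⟶ Wn A J n G,
      E A J n M G φ = u A J n M ≫ g ∧ Function.Bijective g.hom :=
    ⟨_, E_eq A J n M G φ, by
      haveI := Functor.map_isIso (moduleSpecΓFunctor (R := A)) ((Scheme.Modules.pushforward (jn A J n)).map φ)
      exact ConcreteCategory.bijective_of_isIso _⟩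
  rw [hg]
  refine ⟨hb.2.comp (u_surjective A J n M), Submodule.ext fun x => ?_⟩
  rw [LinearMap.mem_ker, ModuleCat.hom_comp, LinearMap.comp_apply]
  exact ⟨fun h => u_ker A J n M x (hb.1 (h.trans (map_zero _).symm)),
    fun h => (congrArg g.hom (u_smul_eq_zero A J n M x h)).trans (map_zero _)⟩

/-- The transition maps of a coherent system. -/
theorem t_spec (G : FSch.ModSys (Cpl A J)) (n : ℕ) [(G.F (n + 1)).IsQuasicoherent] :
    Function.Surjective (t A J G n).hom ∧
      LinearMap.ker (t A J G n).hom = J ^ (n + 1) • (⊤ : Submodule A (Wn A J (n + 1) (G.F (n + 1)))) := by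
  obtain ⟨ε, hε, hE⟩ := exists_iso_pullJ A J (n + 1) (G.F (n + 1))
  let tr := (Trans.transIso ((Cpl A J).ι n) (jn A J (n + 1)) (ι_jn A J n)).app (tilde (Wn A J (n + 1) (G.F (n + 1))))
  let φ : pullJ A J n (Wn A J (n + 1) (G.F (n + 1))) ⟶ G.F n :=
    tr.inv ≫ (Scheme.Modules.pullback ((Cpl A J).ι n)).map ε ≫ (G.e n).hom
  have ht := (comm_iff A J G n _ ε φ).1 (tr.hom_inv_id_assoc _).symm
  rw [hE, Category.id_comp] at ht
  haveI : IsIso φ := inferInstance
  rw [ht]
  exact E_spec A J n _ _ φ

/-- Sections of a direct image along a map surjective on global functions. -/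
theorem finite_push {X Y : Scheme.{u}} (f : X ⟶ Y) (G : X.Modules) (hU : IsAffineOpen (f ⁻¹ᵁ ⊤))
    (hf : Function.Surjective (f.app ⊤).hom) [h : Module.Finite Γ(X, f ⁻¹ᵁ ⊤) Γ(G, f ⁻¹ᵁ ⊤)] :
    Module.Finite Γ(Y, ⊤) Γ((Scheme.Modules.pushforward f).obj G, ⊤) := by
  let σ : Γ(Y, ⊤) →+* Γ(X, f ⁻¹ᵁ ⊤) := (f.app ⊤).hom
  haveI : RingHomSurjective σ := ⟨hf⟩
  let l : Γ((Scheme.Modules.pushforward f).obj G, ⊤) →ₛₗ[σ] Γ(G, f ⁻¹ᵁ ⊤) :=
    { toFun := fun x => QCoh.unPush f G x, map_add' := fun _ _ => rfl, map_smul' := fun r x => QCoh.push_smul f G r x }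
  have hl : Function.Bijective l := ⟨fun _ _ e => e, fun y => ⟨y, rfl⟩⟩
  obtain ⟨T, hT⟩ := h.fg_top
  refine ⟨Submodule.fg_def.2 ⟨l ⁻¹' (T : Set Γ(G, f ⁻¹ᵁ ⊤)), T.finite_toSet.preimage hl.1.injOn, top_unique fun x _ => ?_⟩⟩
  have hx : l x ∈ Submodule.span Γ(X, f ⁻¹ᵁ ⊤) (T : Set Γ(G, f ⁻¹ᵁ ⊤)) := hT ▸ Submodule.mem_top
  have key : ∀ y ∈ Submodule.span Γ(X, f ⁻¹ᵁ ⊤) (T : Set Γ(G, f ⁻¹ᵁ ⊤)), ∀ z, l z = y →
      z ∈ Submodule.span Γ(Y, ⊤) (l ⁻¹' (T : Set Γ(G, f ⁻¹ᵁ ⊤))) := by
    intro y hy
    induction hy using Submodule.span_induction with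
    | mem y hy => exact fun z hz => Submodule.subset_span (show l z ∈ _ from hz ▸ hy)
    | zero => exact fun z hz => hl.1 (hz.trans (map_zero l).symm) ▸ zero_mem _
    | add a b _ _ iha ihb =>
      intro z hz
      obtain ⟨a', ha⟩ := hl.2 a
      obtain ⟨b', hb⟩ := hl.2 b
      rw [hl.1 (show l z = l (a' + b') by rw [map_add, ha, hb, hz])]
      exact add_mem (iha a' ha) (ihb b' hb)
    | smul r a _ iha =>
      intro z hz
      obtain ⟨r', rfl⟩ := hf r
      obtain ⟨a', ha⟩ := hl.2 a
      rw [hl.1 (show l z = l (r' • a') by rw [LinearMap.map_smulₛₗ, ha, hz])]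
      exact Submodule.smul_mem _ _ (iha a' ha)
  exact key _ hx x rfl

/-- The sections of a module of finite type on a level are finite. -/
theorem finite_Wn (n : ℕ) (G : ((Cpl A J).X n).Modules) (hG : Coh.IsCoh G) :
    Module.Finite A (Wn A J n G) := by
  haveI := hG.1
  haveI := hG.2
  have hU : IsAffineOpen ((jn A J n) ⁻¹ᵁ ⊤) := (isAffineOpen_top (Spec A)).preimage _
  haveI := QCoh.finite_sections_of_isFiniteType G hU
  haveI : Module.Finite Γ(Spec A, ⊤) Γ(pushJ A J n G, ⊤) := finite_push (jn A J n) G hU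
    (Scheme.Hom.app_surjective (jn A J n) ⊤ (isAffineOpen_top _))
  exact Props.QTilde.finite_of_ringEquiv (M := Γ(pushJ A J n G, ⊤)) (Props.QTilde.topRingEquiv A)
    (Props.QTilde.topRingEquiv_smul (pushJ A J n G))

/-- An isomorphism of quasi-coherent modules is detected on sections. -/
theorem isIso_of_isIso_sections {R : CommRingCat.{u}} {P Q : (Spec R).Modules} [P.IsQuasicoherent]
    [Q.IsQuasicoherent] (f : P ⟶ Q) (h : IsIso ((moduleSpecΓFunctor (R := R)).map f)) : IsIso f := by
  have h₁ := Scheme.Modules.isIso_fromTildeΓ_of_isQuasicoherent P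
  have h₂ := Scheme.Modules.isIso_fromTildeΓ_of_isQuasicoherent Q
  have hn := tilde.adjunction.counit.naturality f
  haveI : IsIso (tilde.adjunction.counit.app P) := h₁
  haveI : IsIso (tilde.adjunction.counit.app Q) := h₂
  haveI : IsIso ((moduleSpecΓFunctor (R := R) ⋙ tilde.functor R).map f) := Functor.map_isIso (tilde.functor R) _
  have : IsIso (tilde.adjunction.counit.app P ≫ f) := by
    rw [show tilde.adjunction.counit.app P ≫ f = _ from hn.symm]
    infer_instance
  exact IsIso.of_isIso_comp_left (tilde.adjunction.counit.app P) f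

/-- A morphism of systems which is an isomorphism on every level is an isomorphism. -/
noncomputable def isoOfApp {𝔛 : FSch.Sys.{u}} {P Q : FSch.ModSys 𝔛} (φ : P ⟶ Q) [∀ n, IsIso (FSch.ModSys.Hom.app φ n)] :
    P ≅ Q where
  hom := φ
  inv := ⟨fun n => inv (FSch.ModSys.Hom.app φ n), fun n => by
    rw [Functor.map_inv, IsIso.inv_comp_eq, ← Category.assoc, IsIso.eq_comp_inv]
    exact (FSch.ModSys.Hom.comm φ n).symm⟩
  hom_inv_id := FSch.ModSys.Hom.ext (funext fun n => IsIso.hom_inv_id _)
  inv_hom_id := FSch.ModSys.Hom.ext (funext fun n => IsIso.inv_hom_id _)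

/-- A coherent system is the completion of a finite module. -/
theorem exists_iso_complMod [IsAdicComplete J A] (G : FSch.ModSys (Cpl A J)) (hG : G.IsCoh) :
    ∃ M : ModuleCat.{u} A, Module.Finite A M ∧ Nonempty (G ≅ cm A J M) := by
  haveI hq : ∀ n, (G.F n).IsQuasicoherent := fun n => (hG n).1
  obtain ⟨M, a, hfin, hcomp, hsurj, hker⟩ := exists_limit A J (W := fun n => Wn A J n (G.F n)) (fun n => t A J G n)
    (fun n => (t_spec A J G n).1) (fun n => (t_spec A J G n).2) (finite_Wn A J 0 (G.F 0) (hG 0))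
  let φ : ∀ n, pullJ A J n M ⟶ G.F n := fun n => (E A J n M _).symm (a n)
  have hE : ∀ n, E A J n M _ (φ n) = a n := fun n => Equiv.apply_symm_apply _ _
  let Φ : cm A J M ⟶ G := ⟨φ, fun n => (comm_iff A J G n M _ _).2 (by
    rw [hE, hE]
    exact hcomp n)⟩
  haveI : ∀ n, IsIso (FSch.ModSys.Hom.app Φ n) := fun n => by
    haveI : (pullJ A J n M).IsQuasicoherent := QCoh.isQuasicoherent_pullback _ _
    haveI : (pushJ A J n (pullJ A J n M)).IsQuasicoherent := inferInstance
    haveI : (pushJ A J n (G.F n)).IsQuasicoherent := inferInstance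
    let g := (moduleSpecΓFunctor (R := A)).map ((Scheme.Modules.pushforward (jn A J n)).map (φ n))
    have hu : u A J n M ≫ g = a n := (E_eq A J n M _ (φ n)).symm.trans (hE n)
    have hb : Function.Bijective g.hom := by
      refine ⟨fun x y hxy => ?_, fun y => ?_⟩
      · obtain ⟨x, rfl⟩ := u_surjective A J n M x
        obtain ⟨y, rfl⟩ := u_surjective A J n M y
        have h1 : (a n).hom x = (a n).hom y := by
          refine (congr(($hu).hom x)).symm.trans (Eq.trans ?_ (congr(($hu).hom y)))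
          exact hxy
        rw [← sub_eq_zero, ← map_sub]
        refine u_smul_eq_zero A J n M _ ?_
        have : x - y ∈ LinearMap.ker (a n).hom := by rw [LinearMap.mem_ker, map_sub, h1, sub_self]
        rwa [hker n] at this
      · obtain ⟨x, hx⟩ := hsurj n y
        exact ⟨(u A J n M).hom x, (congr(($hu).hom x)).trans hx⟩
    haveI : IsIso g := (ConcreteCategory.isIso_iff_bijective g).2 hb
    haveI : IsIso ((Scheme.Modules.pushforward (jn A J n)).map (φ n)) :=
      isIso_of_isIso_sections (R := A) _ this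
    exact (Props.KilledSub.fullyFaithful (jn A J n)).isIso_of_isIso_map (φ n)
  exact ⟨M, hfin, ⟨(isoOfApp Φ).symm⟩⟩

theorem spec_of_eq [IsAdicComplete J A] (g : ∀ n, (Cpl A J).X n ⟶ Spec A)
    (hg : ∀ n, (Cpl A J).ι n ≫ g (n + 1) = g n) (e : g = jn A J) :
    (IsNoetherianRing A → ∀ (M N : ModuleCat.{u} A), Module.Finite A N →
      Function.Bijective (fun v : M ⟶ N => cmOfMap g hg (tilde.map v))) ∧
    ∀ G : FSch.ModSys (Cpl A J), G.IsCoh →
      ∃ M : ModuleCat.{u} A, Module.Finite A M ∧ Nonempty (G ≅ cmOf g hg (tilde M)) := by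
  subst e
  exact ⟨fun _ M N _ => bijective_cmMap A J M N, fun G hG => exists_iso_complMod A J G hG⟩

theorem bijective_of_cmOfMap {X : Scheme.{u}} (I : X.IdealSheafData) {α : Type u} {F G : X.Modules} (f : α → (F ⟶ G))
    (h : Function.Bijective fun a => cmOfMap (FSch.completionToX X I) (incl_comm I) (f a)) :
    Function.Bijective fun a => FSch.complModMap I (f a) := by
  refine ⟨fun v w hvw => h.1 (FSch.ModSys.Hom.ext ?_), fun φ => ?_⟩
  · exact ((complModMap_app_eq I (f v)).symm.trans (congrArg FSch.ModSys.Hom.app hvw)).trans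
      (complModMap_app_eq I (f w))
  · obtain ⟨ψ, hψ⟩ := exists_ofCompl I φ
    obtain ⟨v, hv⟩ := h.2 ψ
    exact ⟨v, FSch.ModSys.Hom.ext (((complModMap_app_eq I (f v)).trans
      (congrArg FSch.ModSys.Hom.app hv)).trans hψ)⟩

theorem completionToX_eq : FSch.completionToX (Spec (CommRingCat.of A)) (FSch.idealSpec A J) = jn A J :=
  funext fun _ => rfl

/-- Morphisms of completions of finite modules come from morphisms of modules. -/
theorem bijective_complModMap [IsNoetherianRing A] [IsAdicComplete J A] (M N : ModuleCat.{u} A) [Module.Finite A N] :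
    Function.Bijective (fun v : M ⟶ N ↦ FSch.complModMap (FSch.idealSpec A J) (tilde.map v)) :=
  bijective_of_cmOfMap (FSch.idealSpec A J) (fun v : M ⟶ N => tilde.map v)
    ((spec_of_eq A J (FSch.completionToX (Spec (CommRingCat.of A)) (FSch.idealSpec A J))
      (incl_comm _) (completionToX_eq A J)).1 inferInstance M N inferInstance)

/-- A coherent system is the completion of the sheaf of a finite module. -/
theorem exists_iso_complMod' [IsAdicComplete J A] (G : FSch.ModSys (Cpl A J)) (hG : G.IsCoh) :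
    ∃ M : ModuleCat.{u} A, Module.Finite A M ∧ Nonempty (G ≅ FSch.complMod (FSch.idealSpec A J) (tilde M)) := by
  obtain ⟨M, hM, ⟨e⟩⟩ := (spec_of_eq A J (FSch.completionToX (Spec (CommRingCat.of A)) (FSch.idealSpec A J))
    (incl_comm _) (completionToX_eq A J)).2 G hG
  exact ⟨M, hM, ⟨e ≪≫ eqToIso (complMod_eq_cmOf _ _).symm⟩⟩

end Groth.Agent.FComplAff
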