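import Groth.Prelude.Def_FSch3
import Groth.Agent.Adic.RingSys
import Groth.Agent.RegLoc.AdicNoeth
import Groth.Agent.AffThick.Nil

/-!
# Systems of thickenings with affine smallest level
-/

set_option autoImplicit false
set_option linter.style.haveILetI false

universe u

open CategoryTheory CategoryTheory.Limits AlgebraicGeometry

namespace Groth.Agent.FComplAff

variable (𝔛 : FSch.Sys.{u})

theorem isClosedImmersion_toX (hF : 𝔛.IsFormal) :
    ∀ n, IsClosedImmersion (𝔛.toX n) ∧ Function.Surjective (𝔛.toX n).base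
  | 0 => ⟨inferInstanceAs (IsClosedImmersion (𝟙 _)), fun x => ⟨x, rfl⟩⟩
  | n + 1 => by
    obtain ⟨h, h'⟩ := isClosedImmersion_toX hF n
    obtain ⟨g, g'⟩ := hF n
    exact ⟨inferInstanceAs (IsClosedImmersion (𝔛.toX n ≫ 𝔛.ι n)),
      fun x => by
        obtain ⟨y, rfl⟩ := g' x
        obtain ⟨z, rfl⟩ := h' y
        exact ⟨z, rfl⟩⟩

/-- All the levels of a formal system with affine smallest level are affine. -/
theorem isAffine_level (hF : 𝔛.IsFormal) [IsAffine (𝔛.X 0)] (n : ℕ) : IsAffine (𝔛.X n) := by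
  haveI := (isClosedImmersion_toX 𝔛 hF n).1
  haveI : Surjective (𝔛.toX n) := ⟨(isClosedImmersion_toX 𝔛 hF n).2⟩
  exact AffThick.isAffine_of_surjective (𝔛.toX n)

/-- The compatible families of global sections. -/
def limRing : Subring (∀ n, Γ(𝔛.X n, ⊤)) where
  carrier := {x | ∀ n, (𝔛.ι n).appTop.hom (x (n + 1)) = x n}
  one_mem' _ := map_one _
  zero_mem' _ := map_zero _
  add_mem' {x y} hx hy n := (map_add _ _ _).trans (congrArg₂ (· + ·) (hx n) (hy n))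
  mul_mem' {x y} hx hy n := (map_mul _ _ _).trans (congrArg₂ (· * ·) (hx n) (hy n))
  neg_mem' {x} hx n := (map_neg _ _).trans (congrArg (- ·) (hx n))

/-- The projections. -/
def proj (n : ℕ) : limRing 𝔛 →+* Γ(𝔛.X n, ⊤) :=
  (Pi.evalRingHom (fun n => Γ(𝔛.X n, ⊤)) n).comp (limRing 𝔛).subtype

theorem ker_appTop {X Y : Scheme.{u}} (f : X ⟶ Y) [QuasiCompact f] [IsAffine Y] :
    RingHom.ker f.appTop.hom = f.ker.ideal ⟨⊤, isAffineOpen_top Y⟩ :=
  (Scheme.Hom.ker_apply f ⟨⊤, isAffineOpen_top Y⟩).symm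

/-- The ring system of global sections. -/
theorem ringSys (hF : 𝔛.IsFormal) (hA : 𝔛.IsAdic) [IsAffine (𝔛.X 0)] (hft : FSch.IdealFT (𝔛.ι 0).ker) :
    Adic.RingSys (fun n => (𝔛.ι n).appTop.hom) (fun n => (𝔛.toX n).appTop.hom) (limRing 𝔛) (proj 𝔛) := by
  haveI : ∀ n, IsAffine (𝔛.X n) := isAffine_level 𝔛 hF
  haveI : ∀ n, IsClosedImmersion (𝔛.ι n) := fun n => (hF n).1
  haveI : ∀ n, IsClosedImmersion (𝔛.toX n) := fun n => (isClosedImmersion_toX 𝔛 hF n).1
  refine ⟨fun n => (IsClosedImmersion.isAffine_surjective_of_isAffine (𝔛.ι n)).2, rfl, fun n => ?_, fun n => ?_,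
    ?_, fun n => RingHom.ext fun x => x.2 n, fun x hx => Subtype.ext (funext hx), fun y hy => ⟨⟨y, hy⟩, fun n => rfl⟩⟩
  · change ((𝔛.ι n).appTop ≫ (𝔛.toX n).appTop).hom = (𝔛.toX n ≫ 𝔛.ι n).appTop.hom
    rw [Scheme.Hom.comp_appTop]
  · rw [ker_appTop, ker_appTop, hA n, Scheme.IdealSheafData.ideal_pow, Pi.pow_apply]
  · have e : 𝔛.toX 1 = 𝔛.ι 0 := Category.id_comp _
    change (RingHom.ker (𝔛.toX 1).appTop.hom).FG
    rw [e, ker_appTop]
    exact hft _

/-- A system with affine Noetherian smallest level is a formal spectrum. -/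
theorem exists_iso_spf (hF : 𝔛.IsFormal) (hA : 𝔛.IsAdic) [IsAffine (𝔛.X 0)] [IsLocallyNoetherian (𝔛.X 0)]
    (hft : FSch.IdealFT (𝔛.ι 0).ker) :
    ∃ (A : Type u) (_ : CommRing A) (J : Ideal A),
      IsNoetherianRing A ∧ IsAdicComplete J A ∧ Nonempty (𝔛 ≅ FSch.spf A J) := by
  haveI : ∀ n, IsAffine (𝔛.X n) := isAffine_level 𝔛 hF
  have h := ringSys 𝔛 hF hA hft
  obtain ⟨hc, hp, hfg⟩ := h.main
  haveI : IsNoetherianRing Γ(𝔛.X 0, ⊤) :=
    IsLocallyNoetherian.component_noetherian ⟨⊤, isAffineOpen_top (𝔛.X 0)⟩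
  haveI := isNoetherianRing_of_ringEquiv _ (RingHom.quotientKerEquivOfSurjective (hp 0).1).symm
  refine ⟨limRing 𝔛, inferInstance, RingHom.ker (proj 𝔛 0),
    RegLoc.AdicNoeth.isNoetherianRing_of_isAdicComplete _ hfg, hc, ?_⟩
  let J := RingHom.ker (proj 𝔛 0)
  let e : ∀ n, (limRing 𝔛 ⧸ J ^ (n + 1)) ≃+* Γ(𝔛.X n, ⊤) := fun n =>
    (Ideal.quotEquivOfEq (hp n).2.symm).trans (RingHom.quotientKerEquivOfSurjective (hp n).1)
  have he : ∀ (n : ℕ) (a : limRing 𝔛), e n (Ideal.Quotient.mk _ a) = proj 𝔛 n a := fun n a => by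
    exact (congrArg (RingHom.quotientKerEquivOfSurjective (hp n).1)
      (Ideal.quotEquivOfEq_mk (hp n).2.symm a)).trans
      (RingHom.quotientKerEquivOfSurjective_apply_mk (hp n).1 a)
  let φ : ∀ n, 𝔛.X n ≅ (FSch.spf (limRing 𝔛) J).X n := fun n =>
    (𝔛.X n).isoSpec ≪≫ Scheme.Spec.mapIso (e n).toCommRingCatIso.op
  have hn : ∀ n, (φ n).hom ≫ (FSch.spf (limRing 𝔛) J).ι n = 𝔛.ι n ≫ (φ (n + 1)).hom := fun n => by
    change ((𝔛.X n).isoSpec.hom ≫ Spec.map (e n).toCommRingCatIso.hom) ≫ CohB1.specQuotTrans J n =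
      𝔛.ι n ≫ (𝔛.X (n + 1)).isoSpec.hom ≫ Spec.map (e (n + 1)).toCommRingCatIso.hom
    rw [Category.assoc, ← Category.assoc (𝔛.ι n), ← Scheme.isoSpec_hom_naturality, Category.assoc,
      CohB1.specQuotTrans, ← Spec.map_comp, ← Spec.map_comp]
    congr 2
    refine CommRingCat.hom_ext (Ideal.Quotient.ringHom_ext (RingHom.ext fun a => ?_))
    change e n (Ideal.Quotient.factor (Ideal.pow_le_pow_right (Nat.le_succ (n + 1))) (Ideal.Quotient.mk (J ^ (n + 2)) a)) =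
      (𝔛.ι n).appTop.hom (e (n + 1) (Ideal.Quotient.mk (J ^ (n + 2)) a))
    rw [Ideal.Quotient.factor_mk, he, he]
    exact (a.2 n).symm
  exact ⟨{ hom := ⟨fun n => (φ n).hom, hn⟩
           inv := ⟨fun n => (φ n).inv, fun n => by
             rw [Iso.inv_comp_eq, ← Category.assoc, Iso.eq_comp_inv, hn]⟩
           hom_inv_id := FSch.Hom.ext (funext fun n => (φ n).hom_inv_id)
           inv_hom_id := FSch.Hom.ext (funext fun n => (φ n).inv_hom_id) }⟩

end Groth.Agent.FComplAff
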