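import Groth.Prelude.Def_Formal
import Groth.Agent.Adic.IdealSpec
import Groth.Prelude.Def_FSch3
import Groth.Agent.Props.KilledSub
import Groth.Agent.Props.QTilde
import Groth.Agent.QCoh.Qcqs
import Groth.Agent.QCoh.Pullback

/-!
# The inverse image of `M~` on a level of a formal spectrum
-/

set_option autoImplicit false
set_option linter.style.haveILetI false

universe u

open CategoryTheory CategoryTheory.Limits AlgebraicGeometry Opposite

namespace Groth.Agent.FComplAff

variable (A : CommRingCat.{u}) (J : Ideal A) (n : ℕ)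

/-- The `n`-th level as a closed subscheme. -/
noncomputable def jn : (FSch.completionAlong (Spec (CommRingCat.of A)) (FSch.idealSpec A J)).X n ⟶ Spec A :=
  FSch.completionToX (Spec (CommRingCat.of A)) (FSch.idealSpec A J) n

instance : IsClosedImmersion (jn A J n) :=
  inferInstanceAs (IsClosedImmersion ((FSch.idealSpec A J) ^ (n + 1) : (Spec (CommRingCat.of A)).IdealSheafData).subschemeι)

theorem ker_jn : (jn A J n).ker = FSch.idealSpec A J ^ (n + 1) :=
  Scheme.IdealSheafData.ker_subschemeι _

theorem mem_ker_top_iff (r : Γ(Spec A, ⊤)) :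
    r ∈ (jn A J n).ker.ideal ⟨⊤, isAffineOpen_top _⟩ ↔ Adic.IdealSpec.gEquiv A r ∈ J ^ (n + 1) := by
  rw [ker_jn, Scheme.IdealSheafData.ideal_pow, Pi.pow_apply, Adic.IdealSpec.ideal_idealSpec_top]
  have h : (J.comap (Adic.IdealSpec.gEquiv A).toRingHom) ^ (n + 1) =
      (J ^ (n + 1)).comap (Adic.IdealSpec.gEquiv A).toRingHom :=
    Adic.IdealSpec.eq_of_map_gEquiv A (by rw [Ideal.map_pow, Adic.IdealSpec.map_gEquiv, Adic.IdealSpec.map_gEquiv])
  rw [h]
  rfl

theorem topRingEquiv_gEquiv (r : Γ(Spec A, ⊤)) :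
    Props.QTilde.topRingEquiv A (Adic.IdealSpec.gEquiv A r) = r :=
  congr($((Scheme.ΓSpecIso A).hom_inv_id) r)

/-- The sheaf of a module killed by the ideal of a level lives on the level. -/
theorem isIso_unit_tilde (P : ModuleCat.{u} A) (hP : ∀ a ∈ J ^ (n + 1), ∀ x : P, a • x = 0) :
    IsIso ((Scheme.Modules.pullbackPushforwardAdjunction (jn A J n)).unit.app (tilde P)) := by
  have h0 : ∀ r ∈ (jn A J n).ker.ideal ⟨⊤, isAffineOpen_top _⟩, Formal.smulModΓ (tilde P) r = 0 := fun r hr => by
    apply (tilde.adjunction.homEquiv P (tilde P)).injective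
    rw [Adjunction.homEquiv_unit, Adjunction.homEquiv_unit]
    ext x
    let t : Γ(tilde P, ⊤) := Props.QTilde.topEquiv P x
    have ht : r • t = 0 := by
      rw [← topRingEquiv_gEquiv A r, Props.QTilde.topRingEquiv_smul, ← map_smul,
        hP _ ((mem_ker_top_iff A J n r).1 hr) x, map_zero]
    change (show Γ(Spec A, ⊤) from Coh.resTop (Spec A) (op ⊤) r) • t = 0
    rw [show Coh.resTop (Spec A) (op ⊤) r = r from congr($((Spec A).presheaf.map_id _) r)]
    exact ht
  refine (ClUnit.isIso_unit_iff _ _).2 fun U a ha s => ?_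
  have hle : U ≤ (⟨⊤, isAffineOpen_top _⟩ : (Spec A).affineOpens) := fun x _ => trivial
  rw [← Scheme.IdealSheafData.map_ideal _ hle] at ha
  refine Submodule.span_induction (p := fun a _ => a • s = 0) ?_ (zero_smul _ s) ?_ ?_ ha
  · rintro _ ⟨r, hr, rfl⟩
    have := congr(Scheme.Modules.Hom.app $(h0 r hr) U.1 s)
    exact this
  · intro x y _ _ hx hy
    rw [add_smul, hx, hy, add_zero]
  · intro c x _ hx
    rw [smul_eq_mul, mul_smul, hx, smul_zero]

/-- Sections of a module on a level are killed by the ideal of the level. -/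
theorem smul_push_eq_zero (G : ((FSch.completionAlong (Spec (CommRingCat.of A)) (FSch.idealSpec A J)).X n).Modules)
    (a : A) (ha : a ∈ J ^ (n + 1))
    (x : (moduleSpecΓFunctor (R := A)).obj ((Scheme.Modules.pushforward (jn A J n)).obj G)) :
    a • x = 0 := by
  let x' : Γ((Scheme.Modules.pushforward (jn A J n)).obj G, ⊤) := x
  have h := Props.KilledSub.smul_push_eq_zero (jn A J n) G ⟨⊤, isAffineOpen_top _⟩
    (a := Props.QTilde.topRingEquiv A a) ((mem_ker_top_iff A J n _).2 (by
      have := congr($((Scheme.ΓSpecIso A).inv_hom_id) a)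
      exact this.symm ▸ ha)) x'
  rw [Props.QTilde.topRingEquiv_smul] at h
  exact h

/-- The direct image of a module on a level. -/
noncomputable abbrev pushJ (G : ((FSch.completionAlong (Spec (CommRingCat.of A)) (FSch.idealSpec A J)).X n).Modules) :
    (Spec A).Modules := (Scheme.Modules.pushforward (jn A J n)).obj G

/-- The inverse image of `M~` on a level. -/
noncomputable abbrev pullJ (M : ModuleCat.{u} A) :
    ((FSch.completionAlong (Spec (CommRingCat.of A)) (FSch.idealSpec A J)).X n).Modules :=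
  (Scheme.Modules.pullback (jn A J n)).obj (tilde M)

/-- Its sections over the affine scheme. -/
noncomputable abbrev Wn (G : ((FSch.completionAlong (Spec (CommRingCat.of A)) (FSch.idealSpec A J)).X n).Modules) :
    ModuleCat.{u} A := (moduleSpecΓFunctor (R := A)).obj (pushJ A J n G)

/-- The unit at `M~`. -/
noncomputable abbrev etaJ (M : ModuleCat.{u} A) : tilde M ⟶ pushJ A J n (pullJ A J n M) :=
  (Scheme.Modules.pullbackPushforwardAdjunction (jn A J n)).unit.app (tilde M)

/-- The sections of `M~` on the level. -/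
noncomputable def u (M : ModuleCat.{u} A) : M ⟶ Wn A J n (pullJ A J n M) :=
  tilde.adjunction.homEquiv M _ (etaJ A J n M)

theorem u_ker (M : ModuleCat.{u} A) (x : M) (hx : (u A J n M).hom x = 0) :
    x ∈ (J ^ (n + 1) • ⊤ : Submodule A M) := by
  let K : Submodule A M := J ^ (n + 1) • ⊤
  let P : ModuleCat.{u} A := ModuleCat.of A (M ⧸ K)
  let q : M ⟶ P := ModuleCat.ofHom K.mkQ
  let F : (Spec A).Modules ⥤ (Spec A).Modules :=
    Scheme.Modules.pullback (jn A J n) ⋙ Scheme.Modules.pushforward (jn A J n)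
  have hP : ∀ a ∈ J ^ (n + 1), ∀ y : P, a • y = 0 := fun a ha y => by
    obtain ⟨m, rfl⟩ := Submodule.Quotient.mk_surjective K y
    exact (Submodule.Quotient.mk_eq_zero K).2 (Submodule.smul_mem_smul ha Submodule.mem_top)
  have hn : q ≫ u A J n P = u A J n M ≫ (moduleSpecΓFunctor (R := A)).map (F.map (tilde.map q)) := by
    refine (tilde.adjunction.homEquiv_naturality_left q (etaJ A J n P)).symm.trans ?_
    refine Eq.trans ?_ (tilde.adjunction.homEquiv_naturality_right (etaJ A J n M) (F.map (tilde.map q)))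
    exact congrArg _ ((Scheme.Modules.pullbackPushforwardAdjunction (jn A J n)).unit.naturality (tilde.map q))
  haveI : IsIso (etaJ A J n P) := isIso_unit_tilde A J n P hP
  haveI : IsIso ((moduleSpecΓFunctor (R := A)).map (etaJ A J n P)) := Functor.map_isIso _ _
  haveI : IsIso (u A J n P) := by
    unfold u
    rw [Adjunction.homEquiv_unit]
    exact @IsIso.comp_isIso _ _ _ _ _ _ _ inferInstance (Functor.map_isIso (moduleSpecΓFunctor (R := A)) (etaJ A J n P))
  have h1 : (u A J n P).hom (q.hom x) = 0 := by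
    have := congr(($hn).hom x)
    simp only [ModuleCat.hom_comp, LinearMap.comp_apply, hx, map_zero] at this
    exact this
  have h2 : q.hom x = 0 := (ConcreteCategory.bijective_of_isIso (u A J n P)).1 (h1.trans (map_zero _).symm)
  exact (Submodule.Quotient.mk_eq_zero K).1 h2

theorem u_smul_eq_zero (M : ModuleCat.{u} A) (x : M)
    (hx : x ∈ (J ^ (n + 1) • ⊤ : Submodule A M)) : (u A J n M).hom x = 0 := by
  refine Submodule.smul_induction_on hx (fun a ha m _ => ?_) fun a b ha hb => ?_
  · exact (map_smul (u A J n M).hom a m).trans (smul_push_eq_zero A J n _ a ha _)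
  · rw [map_add, ha, hb, add_zero]

theorem exists_coker {W M : ModuleCat.{u} A} (f : M ⟶ W) :
    ∃ (C : ModuleCat.{u} A) (c : W ⟶ C), f ≫ c = 0 ∧ Function.Surjective c.hom ∧
      (c = 0 → Function.Surjective f.hom) := by
  refine ⟨ModuleCat.of A (W ⧸ LinearMap.range f.hom), ModuleCat.ofHom (LinearMap.range f.hom).mkQ, ?_,
    Submodule.mkQ_surjective _, fun h y => ?_⟩
  · ext x
    exact (Submodule.Quotient.mk_eq_zero _).2 ⟨x, rfl⟩
  · exact (Submodule.Quotient.mk_eq_zero (LinearMap.range f.hom)).1 congr(($h).hom y)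

theorem u_surjective (M : ModuleCat.{u} A) : Function.Surjective (u A J n M).hom := by
  let G := pullJ A J n M
  obtain ⟨C, c, hc0, hcs, hconc⟩ := exists_coker A (u A J n M)
  have hC : ∀ a ∈ J ^ (n + 1), ∀ y : C, a • y = 0 := fun a ha y => by
    obtain ⟨w, rfl⟩ := hcs y
    exact ((c.hom.map_smul a w).symm.trans (congrArg c.hom (smul_push_eq_zero A J n G a ha w))).trans (map_zero _)
  haveI : IsIso (etaJ A J n C) := isIso_unit_tilde A J n C hC
  haveI : G.IsQuasicoherent := QCoh.isQuasicoherent_pullback _ _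
  haveI hq : (pushJ A J n G).IsQuasicoherent := inferInstance
  have hi := Scheme.Modules.isIso_fromTildeΓ_of_isQuasicoherent (pushJ A J n G)
  let fi : tilde (Wn A J n G) ≅ pushJ A J n G := @asIso _ _ _ _ _ hi
  let g : pushJ A J n G ⟶ tilde C := fi.inv ≫ tilde.map c
  have hg : etaJ A J n M ≫ g = 0 := by
    have e : tilde.map (u A J n M) ≫ fi.hom = etaJ A J n M :=
      ((tilde.adjunction.homEquiv_counit (X := M) (Y := pushJ A J n G) (g := u A J n M)).symm).trans
        (Equiv.symm_apply_apply (tilde.adjunction.homEquiv M (pushJ A J n G)) (etaJ A J n M))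
    rw [← e, Category.assoc, Iso.hom_inv_id_assoc]
    refine ((tilde.functor A).map_comp _ _).symm.trans ?_
    rw [hc0]
    exact (tilde.functor A).map_zero _ _
  let adj := Scheme.Modules.pullbackPushforwardAdjunction (jn A J n)
  obtain ⟨h, hh⟩ := (Props.KilledSub.fullyFaithful (jn A J n)).map_surjective (g ≫ etaJ A J n C)
  have h0 : h = 0 := by
    apply (adj.homEquiv (tilde M) _).injective
    rw [Adjunction.homEquiv_unit, Adjunction.homEquiv_unit, Functor.map_zero, comp_zero, hh]
    exact (reassoc_of% hg) _ |>.trans zero_comp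
  have hg0 : g = 0 := by
    rw [← cancel_mono (etaJ A J n C), ← hh, h0, zero_comp, Functor.map_zero]
  have hc : c = 0 := by
    apply (tilde.functor A).map_injective
    rw [Functor.map_zero]
    refine (Iso.hom_inv_id_assoc fi (tilde.map c)).symm.trans ?_
    exact (congrArg (fi.hom ≫ ·) hg0).trans comp_zero
  exact hconc hc

end Groth.Agent.FComplAff
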